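import Mathlib.GroupTheory.Sylow
import Mathlib.GroupTheory.PGroup
import Mathlib.Algebra.Group.Subgroup.Pointwise
set_option linter.all false

/-!
# Conjugation of subgroups: small helper lemmas (helper309)

All with the pointwise action `MulAut.conj g • H`.
-/

set_option autoImplicit false

namespace Cfsg.Agent.H309

open Pointwise

variable {G : Type*} [Group G]

theorem mem_conj_smul {g x : G} {H : Subgroup G} :
    x ∈ MulAut.conj g • H ↔ g⁻¹ * x * g ∈ H := by
  rw [Subgroup.mem_pointwise_smul_iff_inv_smul_mem]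
  simp [MulAut.smul_def]

theorem conj_mem_conj_smul {g x : G} {H : Subgroup G} (hx : x ∈ H) :
    g * x * g⁻¹ ∈ MulAut.conj g • H := by
  rw [mem_conj_smul]
  simpa [mul_assoc] using hx

theorem conj_smul_le {g : G} {H K : Subgroup G} :
    MulAut.conj g • H ≤ K ↔ ∀ x ∈ H, g * x * g⁻¹ ∈ K := by
  constructor
  · intro h x hx
    exact h (conj_mem_conj_smul hx)
  · intro h x hx
    rw [mem_conj_smul] at hx
    have := h _ hx
    simpa [mul_assoc] using this

theorem conj_smul_mono {g : G} {H K : Subgroup G} (h : H ≤ K) :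
    (MulAut.conj g • H : Subgroup G) ≤ MulAut.conj g • K :=
  Subgroup.pointwise_smul_le_pointwise_smul_iff.2 h

theorem conj_smul_mono_iff {g : G} {H K : Subgroup G} :
    (MulAut.conj g • H : Subgroup G) ≤ MulAut.conj g • K ↔ H ≤ K :=
  Subgroup.pointwise_smul_le_pointwise_smul_iff

theorem conj_smul_inj {g : G} {H K : Subgroup G} :
    (MulAut.conj g • H : Subgroup G) = MulAut.conj g • K ↔ H = K := by
  rw [le_antisymm_iff, conj_smul_mono_iff, conj_smul_mono_iff, ← le_antisymm_iff]

theorem conj_mul_smul {g h : G} {H : Subgroup G} :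
    (MulAut.conj (g * h) • H : Subgroup G) = MulAut.conj g • MulAut.conj h • H := by
  rw [map_mul, mul_smul]

theorem conj_inv_smul_smul {g : G} {H : Subgroup G} :
    (MulAut.conj g⁻¹ • MulAut.conj g • H : Subgroup G) = H := by
  rw [← conj_mul_smul]; simp

theorem conj_smul_inv_smul {g : G} {H : Subgroup G} :
    (MulAut.conj g • MulAut.conj g⁻¹ • H : Subgroup G) = H := by
  rw [← conj_mul_smul]; simp

theorem conj_one_smul {H : Subgroup G} : (MulAut.conj (1 : G) • H : Subgroup G) = H := by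
  simp

theorem map_conj_eq {g : G} {H : Subgroup G} :
    H.map (MulAut.conj g).toMonoidHom = MulAut.conj g • H := rfl

theorem mem_normalizer_iff_conj {g : G} {H : Subgroup G} :
    g ∈ Subgroup.normalizer (H : Set G) ↔ MulAut.conj g • H = H := by
  rw [Subgroup.mem_normalizer_iff]
  constructor
  · intro h
    ext x
    rw [mem_conj_smul, h]
    simp [mul_assoc]
  · intro h x
    constructor
    · intro hx
      rw [← h]; exact conj_mem_conj_smul hx
    · intro hx
      rw [← h, mem_conj_smul] at hx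
      simpa [mul_assoc] using hx

theorem card_conj_smul (g : G) (H : Subgroup G) :
    Nat.card (MulAut.conj g • H : Subgroup G) = Nat.card H :=
  (Nat.card_congr (Subgroup.equivSMul (MulAut.conj g) H).toEquiv).symm

theorem isPGroup_conj_smul {p : ℕ} {g : G} {H : Subgroup G} (h : IsPGroup p H) :
    IsPGroup p (MulAut.conj g • H : Subgroup G) :=
  h.of_equiv (Subgroup.equivSMul (MulAut.conj g) H)

theorem conj_smul_normalizer {g : G} {H : Subgroup G} :
    (MulAut.conj g • Subgroup.normalizer (H : Set G) : Subgroup G) =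
      Subgroup.normalizer ((MulAut.conj g • H : Subgroup G) : Set G) := by
  ext x
  rw [mem_conj_smul, mem_normalizer_iff_conj, mem_normalizer_iff_conj, conj_mul_smul, conj_mul_smul]
  constructor
  · intro h
    have := congrArg (fun K : Subgroup G => (MulAut.conj g • K : Subgroup G)) h
    simpa [conj_smul_inv_smul] using this
  · intro h
    rw [h, conj_inv_smul_smul]

theorem comm_conj_smul {g : G} {H : Subgroup G} (h : ∀ x ∈ H, ∀ y ∈ H, x * y = y * x) :
    ∀ x ∈ (MulAut.conj g • H : Subgroup G), ∀ y ∈ (MulAut.conj g • H : Subgroup G), x * y = y * x := by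
  intro x hx y hy
  rw [Subgroup.mem_smul_pointwise_iff_exists] at hx hy
  obtain ⟨x', hx', rfl⟩ := hx
  obtain ⟨y', hy', rfl⟩ := hy
  rw [← smul_mul', ← smul_mul', h x' hx' y' hy']

theorem sq_conj_smul {g : G} {H : Subgroup G} {n : ℕ} (h : ∀ x ∈ H, x ^ n = 1) :
    ∀ x ∈ (MulAut.conj g • H : Subgroup G), x ^ n = 1 := by
  intro x hx
  rw [Subgroup.mem_smul_pointwise_iff_exists] at hx
  obtain ⟨x', hx', rfl⟩ := hx
  rw [← smul_pow', h x' hx', smul_one]

theorem eq_of_le_of_card_le [Finite G] {H K : Subgroup G} (h : H ≤ K) (hc : Nat.card K ≤ Nat.card H) :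
    H = K :=
  Subgroup.eq_of_le_of_card_ge h hc

/-- Sylow's theorem inside a subgroup `N` containing the Sylow subgroup `P`. -/
theorem exists_conj_le [Finite G] {p : ℕ} [Fact p.Prime] (P : Sylow p G)
    (N : Subgroup G) (hPN : (P : Subgroup G) ≤ N) (Q : Subgroup G) (hQ : IsPGroup p Q) (hQN : Q ≤ N) :
    ∃ n ∈ N, MulAut.conj n • Q ≤ (P : Subgroup G) := by
  have h1 : IsPGroup p (Q.subgroupOf N) := by
    refine hQ.of_injective (Subgroup.subgroupOfEquivOfLe hQN).toMonoidHom ?_
    exact (Subgroup.subgroupOfEquivOfLe hQN).injective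
  obtain ⟨R, hR⟩ := h1.exists_le_sylow
  obtain ⟨n, hn⟩ := MulAction.exists_smul_eq N R (P.subtype hPN)
  refine ⟨n, n.2, ?_⟩
  intro x hx
  rw [mem_conj_smul] at hx
  have hxN : x ∈ N := by
    have := N.mul_mem (N.mul_mem n.2 (hQN hx)) (N.inv_mem n.2)
    simpa [mul_assoc] using this
  have hy : (⟨(n : G)⁻¹ * x * n, hQN hx⟩ : N) ∈ (R : Subgroup N) := hR (by
    rw [Subgroup.mem_subgroupOf]; exact hx)
  have hz : (⟨x, hxN⟩ : N) ∈ ((n • R : Sylow p N) : Subgroup N) := by
    rw [Sylow.coe_subgroup_smul, mem_conj_smul]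
    exact hy
  rw [hn] at hz
  rw [Sylow.coe_subtype, Subgroup.mem_subgroupOf] at hz
  exact hz

/-- Equal orders: the conjugation in `exists_conj_le` is an equality. -/
theorem exists_conj_eq [Finite G] {p : ℕ} [Fact p.Prime] (P : Sylow p G)
    (N : Subgroup G) (hPN : (P : Subgroup G) ≤ N) (Q : Subgroup G) (hQN : Q ≤ N)
    (hc : Nat.card Q = Nat.card P) :
    ∃ n ∈ N, MulAut.conj n • Q = (P : Subgroup G) := by
  have hQ : IsPGroup p Q := by
    obtain ⟨n, hn⟩ := IsPGroup.iff_card.1 P.2
    exact IsPGroup.of_card (hc.trans hn)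
  obtain ⟨n, hn, h⟩ := exists_conj_le P N hPN Q hQ hQN
  refine ⟨n, hn, eq_of_le_of_card_le h ?_⟩
  rw [card_conj_smul, hc]

end Cfsg.Agent.H309
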